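import Mathlib

/-!
# Deligne's theorem: finitary sites have enough points
-/

set_option autoImplicit false

universe u

namespace Groth.Deligne

open CategoryTheory CategoryTheory.Limits Opposite

variable {C : Type u} [SmallCategory C] (J : GrothendieckTopology C)

/-- Every covering sieve contains a finite covering family. -/
def Finitary : Prop :=
  ∀ (U : C) (S : Sieve U), S ∈ J U →
    ∃ (n : ℕ) (V : Fin n → C) (g : ∀ k, V k ⟶ U), (∀ k, S (g k)) ∧ Sieve.ofArrows V g ∈ J U

/-- A pro-object over `X` on which the sieve `S` is nowhere covering. -/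
structure Stage {X : C} (S : Sieve X) where
  N : Type u
  [pre : Preorder N]
  dir : ∀ a b : N, ∃ c, c ≤ a ∧ c ≤ b
  p : N ⥤ C
  o : N
  f₀ : p.obj o ⟶ X
  good : ∀ (V : N) (h : V ≤ o), S.pullback (p.map (homOfLE h) ≫ f₀) ∉ J (p.obj V)

attribute [instance] Stage.pre

variable {J} {X : C} {S : Sieve X} (hJ : Finitary J) (s : Stage J S)

theorem Stage.lower (F : Finset s.N) (a : s.N) : ∃ c, c ≤ a ∧ ∀ b ∈ F, c ≤ b := by
  classical
  induction F using Finset.induction_on with
  | empty => exact ⟨a, le_rfl, by simp⟩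
  | insert b F _ ih =>
    obtain ⟨c, hca, hc⟩ := ih
    obtain ⟨d, hdc, hdb⟩ := s.dir c b
    refine ⟨d, hdc.trans hca, fun x hx => ?_⟩
    rcases Finset.mem_insert.1 hx with rfl | hx
    · exact hdb
    · exact hdc.trans (hc x hx)

/-- The covering problems on a stage. -/
abbrev Task : Type u := Σ U : s.N, {R : Sieve (s.p.obj U) // R ∈ J (s.p.obj U)}

/-- The number of arrows chosen for a task. -/
noncomputable def num (t : Task s) : ℕ := (hJ _ t.2.1 t.2.2).choose

/-- The sources of the arrows chosen for a task. -/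
noncomputable def src (t : Task s) : Fin (num hJ s t) → C := (hJ _ t.2.1 t.2.2).choose_spec.choose

/-- The arrows chosen for a task. -/
noncomputable def arr (t : Task s) (k : Fin (num hJ s t)) : src hJ s t k ⟶ s.p.obj t.1 :=
  (hJ _ t.2.1 t.2.2).choose_spec.choose_spec.choose k

theorem arr_mem (t : Task s) (k : Fin (num hJ s t)) : t.2.1 (arr hJ s t k) :=
  (hJ _ t.2.1 t.2.2).choose_spec.choose_spec.choose_spec.1 k

theorem arr_cover (t : Task s) : Sieve.ofArrows (src hJ s t) (arr hJ s t) ∈ J (s.p.obj t.1) :=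
  (hJ _ t.2.1 t.2.2).choose_spec.choose_spec.choose_spec.2

/-- `S` covers everything over `V` lifting to the branches chosen by `c`. -/
def Bad (F : Finset (Task s)) (c : ∀ t : F, Fin (num hJ s t.1)) (V : s.N) (hV : V ≤ s.o)
    (hF : ∀ t ∈ F, V ≤ t.1) : Prop :=
  ∀ (Z : C) (a : Z ⟶ s.p.obj V),
    (∀ t : F, ∃ b : Z ⟶ src hJ s t.1 (c t), b ≫ arr hJ s t.1 (c t) = a ≫ s.p.map (homOfLE (hF t.1 t.2))) →
      S.pullback (a ≫ s.p.map (homOfLE hV) ≫ s.f₀) ∈ J Z

/-- The choice `c` of branches is admissible. -/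
def Adm (F : Finset (Task s)) (c : ∀ t : F, Fin (num hJ s t.1)) : Prop :=
  ∀ (V : s.N) (hV : V ≤ s.o) (hF : ∀ t ∈ F, V ≤ t.1), ¬ Bad hJ s F c V hV hF

theorem map_le {U V W : s.N} (h : U ≤ V) (h' : V ≤ W) :
    s.p.map (homOfLE h) ≫ s.p.map (homOfLE h') = s.p.map (homOfLE (h.trans h')) := by
  rw [← s.p.map_comp]
  rfl

theorem exists_adm (F : Finset (Task s)) : ∃ c, Adm hJ s F c := by
  classical
  by_contra h
  have h' : ∀ c, ∃ (V : s.N) (hV : V ≤ s.o) (hF : ∀ t ∈ F, V ≤ t.1), Bad hJ s F c V hV hF := fun c => by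
    by_contra hc
    exact h ⟨c, fun V hV hF hb => hc ⟨V, hV, hF, hb⟩⟩
  choose V hV hF hb using h'
  obtain ⟨W, hWo, hW⟩ := s.lower (F.image Sigma.fst ∪ Finset.univ.image V) s.o
  have hWF : ∀ t ∈ F, W ≤ t.1 := fun t ht => hW _ (Finset.mem_union_left _ (Finset.mem_image_of_mem _ ht))
  have hWV : ∀ c, W ≤ V c := fun c =>
    hW _ (Finset.mem_union_right _ (Finset.mem_image_of_mem _ (Finset.mem_univ c)))
  refine s.good W hWo ?_
  have hfin : ∀ G : Finset (Task s), (hG : ∀ t ∈ G, W ≤ t.1) →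
      ∃ R ∈ J (s.p.obj W), ∀ Z (a : Z ⟶ s.p.obj W), Sieve.arrows R a → ∀ t (ht : t ∈ G),
        ∃ (k : Fin (num hJ s t)) (b : Z ⟶ src hJ s t k),
          b ≫ arr hJ s t k = a ≫ s.p.map (homOfLE (hG t ht)) := by
    intro G
    induction G using Finset.induction_on with
    | empty => exact fun _ => ⟨⊤, J.top_mem _, fun _ _ _ t ht => absurd ht (Finset.notMem_empty t)⟩
    | insert t₀ G _ ih =>
      intro hG
      obtain ⟨R, hR, hR'⟩ := ih fun t ht => hG t (Finset.mem_insert_of_mem ht)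
      refine ⟨_, J.intersection_covering hR (J.pullback_stable
        (s.p.map (homOfLE (hG t₀ (Finset.mem_insert_self _ _)))) (arr_cover hJ s t₀)), fun Z a ha t ht => ?_⟩
      rcases Finset.mem_insert.1 ht with rfl | ht'
      · obtain ⟨k, b, hk⟩ := (Sieve.mem_ofArrows_iff _ _ _).1 ha.2
        exact ⟨k, b, hk.symm⟩
      · exact hR' Z a ha.1 t ht'
  obtain ⟨R, hR, hR'⟩ := hfin F hWF
  refine J.transitive hR _ fun Z a ha => ?_
  choose k b hk using hR' Z a ha
  let c : ∀ t : F, Fin (num hJ s t.1) := fun t => k t.1 t.2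
  have := hb c Z (a ≫ s.p.map (homOfLE (hWV c))) fun t => ⟨b t.1 t.2, by
    rw [Category.assoc, map_le, hk]⟩
  rw [Category.assoc, ← Category.assoc (s.p.map _), map_le] at this
  rwa [Sieve.pullback_comp] at this

theorem bad_mono {F F' : Finset (Task s)} (h : F ⊆ F') (c : ∀ t : F', Fin (num hJ s t.1))
    {V V' : s.N} (hV : V ≤ s.o) (hF : ∀ t ∈ F, V ≤ t.1) (hVV' : V' ≤ V) (hF' : ∀ t ∈ F', V' ≤ t.1)
    (hb : Bad hJ s F (fun t => c ⟨t.1, h t.2⟩) V hV hF) : Bad hJ s F' c V' (hVV'.trans hV) hF' := by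
  intro Z a ha
  have := hb Z (a ≫ s.p.map (homOfLE hVV')) fun t => by
    obtain ⟨b, e⟩ := ha ⟨t.1, h t.2⟩
    exact ⟨b, by rw [Category.assoc, map_le]; exact e⟩
  rwa [Category.assoc, ← Category.assoc (s.p.map _), map_le] at this

theorem exists_choice : ∃ c : ∀ t, Fin (num hJ s t), ∀ F : Finset (Task s), Adm hJ s F fun t => c t.1 := by
  classical
  have hne : ∀ t, Nonempty (Fin (num hJ s t)) := fun t => by
    obtain ⟨c, -⟩ := exists_adm hJ s {t}
    exact ⟨c ⟨t, Finset.mem_singleton_self t⟩⟩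
  let A : Finset (Task s) → Set (∀ t, Fin (num hJ s t)) := fun F => {c | Adm hJ s F fun t => c t.1}
  have hcl : ∀ F, IsClosed (A F) := fun F =>
    (isClosed_discrete {c | Adm hJ s F c}).preimage
      (continuous_pi fun t : F => continuous_apply (A := fun t => Fin (num hJ s t)) t.1)
  have hmono : ∀ {F F'}, F ⊆ F' → A F' ⊆ A F := fun {F F'} h c hc V hV hF hb => by
    obtain ⟨V', hV', hF'⟩ := s.lower (F'.image Sigma.fst) V
    exact hc V' (hV'.trans hV) (fun t ht => hF' _ (Finset.mem_image_of_mem _ ht))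
      (bad_mono hJ s h (fun t => c t.1) hV hF hV' _ hb)
  obtain ⟨c, hc⟩ := IsCompact.nonempty_iInter_of_directed_nonempty_isCompact_isClosed A
    (fun F F' => ⟨F ∪ F', hmono Finset.subset_union_left, hmono Finset.subset_union_right⟩)
    (fun F => by
      obtain ⟨c, hc⟩ := exists_adm hJ s F
      refine ⟨fun t => if ht : t ∈ F then c ⟨t, ht⟩ else (hne t).some, ?_⟩
      change Adm hJ s F _
      convert hc using 1
      funext t
      simp [t.2])
    (fun F => (hcl F).isCompact) hcl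
  exact ⟨c, fun F => Set.mem_iInter.1 hc F⟩

/-- The chosen branches. -/
noncomputable abbrev branch (t : Task s) : Fin (num hJ s t) := (exists_choice hJ s).choose t

/-- The index set of the next stage. -/
@[ext]
structure Idx where
  V : s.N
  F : Finset (Task s)
  le : ∀ t ∈ F, V ≤ t.1

instance : Preorder (Idx s) where
  le q r := q.V ≤ r.V ∧ r.F ⊆ q.F
  le_refl q := ⟨le_rfl, Finset.Subset.refl _⟩
  le_trans q r l h h' := ⟨h.1.trans h'.1, h'.2.trans h.2⟩

variable [HasFiniteLimits C]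

/-- The object of the next stage at an index. -/
noncomputable abbrev P (q : Idx s) : C :=
  widePullback (s.p.obj q.V)
    (fun t : q.F => pullback (s.p.map (homOfLE (q.le t.1 t.2))) (arr hJ s t.1 (branch hJ s t.1)))
    fun _ => pullback.fst _ _

/-- The projection to the previous stage. -/
noncomputable def base (q : Idx s) : P hJ s q ⟶ s.p.obj q.V := WidePullback.base _

/-- The lift to the chosen branch. -/
noncomputable def proj (q : Idx s) (t : Task s) (ht : t ∈ q.F) :
    P hJ s q ⟶ src hJ s t (branch hJ s t) :=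
  WidePullback.π (fun t : q.F => pullback.fst (s.p.map (homOfLE (q.le t.1 t.2)))
    (arr hJ s t.1 (branch hJ s t.1))) ⟨t, ht⟩ ≫ pullback.snd _ _

theorem proj_w (q : Idx s) (t : Task s) (ht : t ∈ q.F) :
    proj hJ s q t ht ≫ arr hJ s t (branch hJ s t) = base hJ s q ≫ s.p.map (homOfLE (q.le t ht)) := by
  rw [proj, Category.assoc, ← pullback.condition, ← Category.assoc, WidePullback.π_arrow]
  rfl

theorem P_ext {q : Idx s} {Z : C} (a b : Z ⟶ P hJ s q) (h : a ≫ base hJ s q = b ≫ base hJ s q)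
    (h' : ∀ t ht, a ≫ proj hJ s q t ht = b ≫ proj hJ s q t ht) : a = b := by
  refine WidePullback.hom_ext _ a b (fun t => pullback.hom_ext ?_ ?_) h
  · rw [Category.assoc, Category.assoc, WidePullback.π_arrow]
    exact h
  · rw [Category.assoc, Category.assoc]
    exact h' t.1 t.2

/-- Maps into the object of the next stage. -/
noncomputable def plift (q : Idx s) {Z : C} (a : Z ⟶ s.p.obj q.V)
    (b : ∀ t ∈ q.F, Z ⟶ src hJ s t (branch hJ s t))
    (h : ∀ t ht, b t ht ≫ arr hJ s t (branch hJ s t) = a ≫ s.p.map (homOfLE (q.le t ht))) :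
    Z ⟶ P hJ s q :=
  WidePullback.lift a (fun t => pullback.lift a (b t.1 t.2) (h t.1 t.2).symm)
    fun _ => pullback.lift_fst _ _ _

theorem plift_base (q : Idx s) {Z : C} (a : Z ⟶ s.p.obj q.V)
    (b : ∀ t ∈ q.F, Z ⟶ src hJ s t (branch hJ s t))
    (h : ∀ t ht, b t ht ≫ arr hJ s t (branch hJ s t) = a ≫ s.p.map (homOfLE (q.le t ht))) :
    plift hJ s q a b h ≫ base hJ s q = a :=
  WidePullback.lift_base _ _ _ _

theorem plift_proj (q : Idx s) {Z : C} (a : Z ⟶ s.p.obj q.V)
    (b : ∀ t ∈ q.F, Z ⟶ src hJ s t (branch hJ s t))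
    (h : ∀ t ht, b t ht ≫ arr hJ s t (branch hJ s t) = a ≫ s.p.map (homOfLE (q.le t ht)))
    (t : Task s) (ht : t ∈ q.F) :
    plift hJ s q a b h ≫ proj hJ s q t ht = b t ht := by
  rw [proj, plift, ← Category.assoc, WidePullback.lift_π, pullback.lift_snd]

/-- The transition maps of the next stage. -/
noncomputable def trans {q r : Idx s} (h : q ≤ r) : P hJ s q ⟶ P hJ s r :=
  plift hJ s r (base hJ s q ≫ s.p.map (homOfLE h.1)) (fun t ht => proj hJ s q t (h.2 ht))
    fun t ht => by rw [proj_w, Category.assoc, map_le]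

theorem trans_base {q r : Idx s} (h : q ≤ r) :
    trans hJ s h ≫ base hJ s r = base hJ s q ≫ s.p.map (homOfLE h.1) :=
  plift_base hJ s r _ _ _

theorem trans_proj {q r : Idx s} (h : q ≤ r) (t : Task s) (ht : t ∈ r.F) :
    trans hJ s h ≫ proj hJ s r t ht = proj hJ s q t (h.2 ht) :=
  plift_proj hJ s r _ _ _ t ht

/-- The pro-object of the next stage. -/
noncomputable def nextP : Idx s ⥤ C where
  obj := P hJ s
  map h := trans hJ s h.le
  map_id q := P_ext hJ s _ _ (by simp [trans_base]) fun t ht => by simp [trans_proj]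
  map_comp {a b c} f g := P_ext hJ s _ _
    (by rw [trans_base, Category.assoc, trans_base, ← Category.assoc, trans_base, Category.assoc, map_le])
    fun t ht => by rw [trans_proj, Category.assoc, trans_proj, trans_proj]

/-- The index of the previous stage. -/
abbrev idx (U : s.N) : Idx s := ⟨U, ∅, fun _ ht => absurd ht (Finset.notMem_empty _)⟩

/-- The next stage. -/
noncomputable def next : Stage J S where
  N := Idx s
  dir a b := by
    classical
    obtain ⟨c, hca, hcb⟩ := s.dir a.V b.V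
    exact ⟨⟨c, a.F ∪ b.F, fun t ht => (Finset.mem_union.1 ht).elim (fun h => hca.trans (a.le t h))
      fun h => hcb.trans (b.le t h)⟩, ⟨hca, Finset.subset_union_left⟩, ⟨hcb, Finset.subset_union_right⟩⟩
  p := nextP hJ s
  o := idx s s.o
  f₀ := base hJ s _ ≫ s.f₀
  good q hq hS := by
    refine (exists_choice hJ s).choose_spec q.F q.V hq.1 q.le fun Z a ha => ?_
    choose b hb using ha
    have := J.pullback_stable (plift hJ s q a (fun t ht => b ⟨t, ht⟩) fun t ht => hb ⟨t, ht⟩) hS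
    change (S.pullback (trans hJ s hq ≫ base hJ s _ ≫ s.f₀)).pullback _ ∈ J Z at this
    rw [reassoc_of% (trans_base hJ s hq), ← Sieve.pullback_comp,
      reassoc_of% (plift_base hJ s q)] at this
    exact this

/-- The functor of germs of maps out of a stage. -/
noncomputable def Stage.fib : C ⥤ Type u :=
  yoneda ⋙ (Functor.whiskeringLeft _ _ (Type u)).obj s.p.op ⋙ colim

/-- A germ. -/
noncomputable def Stage.germ {U : s.N} {A : C} (f : s.p.obj U ⟶ A) : s.fib.obj A :=
  colimit.ι (s.p.op ⋙ yoneda.obj A) (op U) f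

theorem Stage.mk_surj {A : C} (a : s.fib.obj A) : ∃ (U : s.N) (f : s.p.obj U ⟶ A), s.germ f = a := by
  obtain ⟨U, f, h⟩ := Types.jointly_surjective_of_isColimit (colimit.isColimit (s.p.op ⋙ yoneda.obj A)) a
  exact ⟨U.unop, f, h⟩

theorem Stage.map_germ {U : s.N} {A B : C} (f : s.p.obj U ⟶ A) (g : A ⟶ B) :
    s.fib.map g (s.germ f) = s.germ (f ≫ g) :=
  ConcreteCategory.congr_hom (ι_colimMap (s.p.op.whiskerLeft (yoneda.map g)) (op U)) f

theorem Stage.mk_le {U V : s.N} (h : V ≤ U) {A : C} (f : s.p.obj U ⟶ A) :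
    s.germ (s.p.map (homOfLE h) ≫ f) = s.germ f :=
  ConcreteCategory.congr_hom (colimit.w (s.p.op ⋙ yoneda.obj A) (homOfLE h).op) f

instance : IsFiltered (Stage.N s)ᵒᵖ := by
  haveI : IsCodirectedOrder s.N := ⟨fun a b => by
    obtain ⟨c, h, h'⟩ := s.dir a b
    exact ⟨c, h, h'⟩⟩
  haveI : Nonempty s.N := ⟨s.o⟩
  infer_instance

theorem Stage.mk_eq {U U' : s.N} {A : C} {f : s.p.obj U ⟶ A} {f' : s.p.obj U' ⟶ A} (h : s.germ f = s.germ f') :
    ∃ (V : s.N) (hU : V ≤ U) (hU' : V ≤ U'), s.p.map (homOfLE hU) ≫ f = s.p.map (homOfLE hU') ≫ f' := by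
  obtain ⟨V, g, g', e⟩ := (Types.FilteredColimit.colimit_eq_iff _).1 h
  exact ⟨V.unop, g.unop.le, g'.unop.le, e⟩

/-- The component of `step`. -/
noncomputable def stepApp (A : C) : s.fib.obj A ⟶ (next hJ s).fib.obj A :=
  colimit.desc (s.p.op ⋙ yoneda.obj A)
    { pt := (next hJ s).fib.obj A
      ι :=
        { app := fun U => TypeCat.ofHom fun f : s.p.obj U.unop ⟶ A =>
            (next hJ s).germ (U := idx s U.unop) (base hJ s (idx s U.unop) ≫ f)
          naturality := fun U V g => by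
            ext f
            have h : idx s V.unop ≤ idx s U.unop := ⟨g.unop.le, Finset.Subset.refl _⟩
            refine Eq.trans ?_ ((next hJ s).mk_le (U := idx s U.unop) (V := idx s V.unop) h _)
            refine congrArg (fun z => (next hJ s).germ (U := idx s V.unop) z) ?_
            exact ((reassoc_of% trans_base hJ s h) f).symm } }

theorem stepApp_mk {U : s.N} {A : C} (f : s.p.obj U ⟶ A) :
    stepApp hJ s A (s.germ f) = (next hJ s).germ (U := idx s U) (base hJ s (idx s U) ≫ f) :=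
  ConcreteCategory.congr_hom (colimit.ι_desc
    (F := s.p.op ⋙ yoneda.obj A) _ (op U)) f

/-- Germs of a stage give germs of the next one. -/
noncomputable def step : s.fib ⟶ (next hJ s).fib where
  app := stepApp hJ s
  naturality A B g := by
    ext a
    obtain ⟨U, f, rfl⟩ := s.mk_surj a
    change stepApp hJ s B (s.fib.map g (s.germ f)) = (next hJ s).fib.map g (stepApp hJ s A (s.germ f))
    rw [s.map_germ, stepApp_mk, stepApp_mk]
    refine Eq.trans ?_ ((next hJ s).map_germ (U := idx s U) _ g).symm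
    exact congrArg _ (Category.assoc _ _ _).symm

theorem step_mk {U : s.N} {A : C} (f : s.p.obj U ⟶ A) :
    (step hJ s).app A (s.germ f) = (next hJ s).germ (U := idx s U) (base hJ s (idx s U) ≫ f) :=
  stepApp_mk hJ s f

variable {s} (hS : S ∉ J X)

/-- The initial stage. -/
def initial : Stage J S where
  N := PUnit.{u + 1}
  dir a b := ⟨a, le_rfl, le_rfl⟩
  p := (Functor.const _).obj X
  o := PUnit.unit
  f₀ := 𝟙 X
  good V h hc := hS (by simpa using hc)

/-- All the stages. -/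
noncomputable def stage : ℕ → Stage J S
  | 0 => initial hS
  | n + 1 => next hJ (stage n)

/-- The sequence of the germ functors. -/
noncomputable def seq : ℕ ⥤ C ⥤ Type u :=
  Functor.ofSequence (X := fun n => (stage hJ hS n).fib) fun n => step hJ (stage hJ hS n)

/-- The limit germ functor. -/
noncomputable def fiber : C ⥤ Type u := colimit (seq hJ hS)

/-- A germ in the limit. -/
noncomputable def mk (n : ℕ) {U : (stage hJ hS n).N} {A : C} (f : (stage hJ hS n).p.obj U ⟶ A) :
    (fiber hJ hS).obj A :=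
  (colimit.ι (seq hJ hS) n).app A ((stage hJ hS n).germ f)

theorem map_mk {n : ℕ} {U : (stage hJ hS n).N} {A B : C} (f : (stage hJ hS n).p.obj U ⟶ A) (g : A ⟶ B) :
    (fiber hJ hS).map g (mk hJ hS n f) = mk hJ hS n (f ≫ g) := by
  rw [mk, mk, ← (stage hJ hS n).map_germ]
  exact (NatTrans.naturality_apply (colimit.ι (seq hJ hS) n) g _).symm

theorem seq_succ (n : ℕ) {A : C} (z : (stage hJ hS n).fib.obj A) :
    ((seq hJ hS).map (homOfLE (Nat.le_add_right n 1))).app A z = (step hJ (stage hJ hS n)).app A z := by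
  exact ConcreteCategory.congr_hom (NatTrans.congr_app
    (Functor.ofSequence_map_homOfLE_succ (X := fun n => (stage hJ hS n).fib)
      (fun n => step hJ (stage hJ hS n)) n) A) z

theorem mk_succ {n : ℕ} {U : (stage hJ hS n).N} {A : C} (f : (stage hJ hS n).p.obj U ⟶ A) :
    mk hJ hS (n + 1) (U := idx _ U) (base hJ (stage hJ hS n) (idx _ U) ≫ f) = mk hJ hS n f := by
  refine Eq.trans ?_ (ConcreteCategory.congr_hom (NatTrans.congr_app
    (colimit.w (seq hJ hS) (homOfLE (Nat.le_add_right n 1))) A) ((stage hJ hS n).germ f))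
  exact congrArg ((colimit.ι (seq hJ hS) (n + 1)).app A)
    ((step_mk hJ (stage hJ hS n) f).symm.trans (seq_succ hJ hS n _).symm)

theorem mk_le {n : ℕ} {U V : (stage hJ hS n).N} (h : V ≤ U) {A : C}
    (f : (stage hJ hS n).p.obj U ⟶ A) :
    mk hJ hS n ((stage hJ hS n).p.map (homOfLE h) ≫ f) = mk hJ hS n f :=
  congrArg ((colimit.ι (seq hJ hS) n).app A) ((stage hJ hS n).mk_le h f)

theorem seq_map {n m : ℕ} (h : n ≤ m) (U : (stage hJ hS n).N) :
    ∃ (U' : (stage hJ hS m).N) (d : (stage hJ hS m).p.obj U' ⟶ (stage hJ hS n).p.obj U),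
      ∀ (A : C) (f : (stage hJ hS n).p.obj U ⟶ A),
        ((seq hJ hS).map (homOfLE h)).app A ((stage hJ hS n).germ f) = (stage hJ hS m).germ (d ≫ f) := by
  induction m, h using Nat.le_induction with
  | base =>
    refine ⟨U, 𝟙 _, fun A f => ?_⟩
    rw [Category.id_comp]
    exact ConcreteCategory.congr_hom (NatTrans.congr_app ((seq hJ hS).map_id n) A) _
  | succ m h ih =>
    obtain ⟨U', d, hd⟩ := ih
    refine ⟨idx _ U', base hJ (stage hJ hS m) (idx _ U') ≫ d, fun A f => ?_⟩
    rw [← homOfLE_comp h (Nat.le_add_right m 1), Functor.map_comp]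
    refine (congrArg _ (hd A f)).trans ((seq_succ hJ hS m _).trans ?_)
    refine (step_mk hJ (stage hJ hS m) _).trans (congrArg _ ?_)
    exact (Category.assoc _ _ _).symm

theorem mk_up {n m : ℕ} (h : n ≤ m) (U : (stage hJ hS n).N) :
    ∃ (U' : (stage hJ hS m).N) (d : (stage hJ hS m).p.obj U' ⟶ (stage hJ hS n).p.obj U),
      ∀ (A : C) (f : (stage hJ hS n).p.obj U ⟶ A), mk hJ hS m (d ≫ f) = mk hJ hS n f := by
  obtain ⟨U', d, hd⟩ := seq_map hJ hS h U
  refine ⟨U', d, fun A f => ?_⟩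
  refine Eq.trans ?_ (ConcreteCategory.congr_hom (NatTrans.congr_app
    (colimit.w (seq hJ hS) (homOfLE h)) A) ((stage hJ hS n).germ f))
  exact congrArg ((colimit.ι (seq hJ hS) m).app A) (hd A f).symm

theorem mk_surj {A : C} (a : (fiber hJ hS).obj A) :
    ∃ (n : ℕ) (U : (stage hJ hS n).N) (f : (stage hJ hS n).p.obj U ⟶ A), mk hJ hS n f = a := by
  obtain ⟨n, z, rfl⟩ := Types.jointly_surjective_of_isColimit
    (isColimitOfPreserves ((evaluation C (Type u)).obj A) (colimit.isColimit (seq hJ hS))) a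
  obtain ⟨U, f, rfl⟩ := (stage hJ hS n).mk_surj z
  exact ⟨n, U, f, rfl⟩

theorem stage_eq {n : ℕ} {A : C} {z z' : (stage hJ hS n).fib.obj A}
    (h : (colimit.ι (seq hJ hS) n).app A z = (colimit.ι (seq hJ hS) n).app A z') :
    ∃ (m : ℕ) (hm : n ≤ m), ((seq hJ hS).map (homOfLE hm)).app A z =
      ((seq hJ hS).map (homOfLE hm)).app A z' := by
  obtain ⟨m, f, e⟩ := (Types.FilteredColimit.isColimit_eq_iff'
    (isColimitOfPreserves ((evaluation C (Type u)).obj A) (colimit.isColimit (seq hJ hS))) _ _).1 h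
  exact ⟨m, f.le, e⟩

theorem mk_eq {n : ℕ} {U : (stage hJ hS n).N} {A : C} {f f' : (stage hJ hS n).p.obj U ⟶ A}
    (h : mk hJ hS n f = mk hJ hS n f') :
    ∃ (m : ℕ) (V : (stage hJ hS m).N) (e : (stage hJ hS m).p.obj V ⟶ (stage hJ hS n).p.obj U),
      (∀ (B : C) (g : (stage hJ hS n).p.obj U ⟶ B), mk hJ hS m (e ≫ g) = mk hJ hS n g) ∧
        e ≫ f = e ≫ f' := by
  obtain ⟨m, hm, e⟩ := stage_eq hJ hS h
  obtain ⟨U', d, hd⟩ := seq_map hJ hS hm U
  rw [hd, hd] at e
  obtain ⟨V, h₁, h₂, e'⟩ := (stage hJ hS m).mk_eq e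
  refine ⟨m, V, (stage hJ hS m).p.map (homOfLE h₁) ≫ d, fun B g => ?_, ?_⟩
  · rw [Category.assoc, mk_le]
    refine Eq.trans ?_ (ConcreteCategory.congr_hom (NatTrans.congr_app
      (colimit.w (seq hJ hS) (homOfLE hm)) B) ((stage hJ hS n).germ g))
    exact congrArg ((colimit.ι (seq hJ hS) m).app B) (hd B g).symm
  · simpa only [Category.assoc] using e'

theorem root (n : ℕ) :
    mk hJ hS n (stage hJ hS n).f₀ = mk hJ hS 0 (stage hJ hS 0).f₀ ∧
      ∀ h : 0 ≤ n, ((seq hJ hS).map (homOfLE h)).app X ((stage hJ hS 0).germ (stage hJ hS 0).f₀) =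
        (stage hJ hS n).germ (stage hJ hS n).f₀ := by
  induction n with
  | zero => exact ⟨rfl, fun h => ConcreteCategory.congr_hom (NatTrans.congr_app ((seq hJ hS).map_id 0) X) _⟩
  | succ n ih =>
    refine ⟨(mk_succ hJ hS (stage hJ hS n).f₀).trans ih.1, fun h => ?_⟩
    rw [← homOfLE_comp (Nat.zero_le n) (Nat.le_add_right n 1), Functor.map_comp]
    refine (congrArg _ (ih.2 _)).trans ((seq_succ hJ hS n _).trans ?_)
    exact step_mk hJ (stage hJ hS n) _

instance : IsCofiltered (fiber hJ hS).Elements where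
  nonempty := ⟨Functor.elementsMk _ X (mk hJ hS 0 (stage hJ hS 0).f₀)⟩
  cone_objs := by
    rintro ⟨A, a⟩ ⟨B, b⟩
    obtain ⟨n, U, f, rfl⟩ := mk_surj hJ hS a
    obtain ⟨m, W, g, rfl⟩ := mk_surj hJ hS b
    obtain ⟨U', d, hd⟩ := mk_up hJ hS (le_max_left n m) U
    obtain ⟨W', d', hd'⟩ := mk_up hJ hS (le_max_right n m) W
    obtain ⟨V, hVU, hVW⟩ := (stage hJ hS (max n m)).dir U' W'
    refine ⟨Functor.elementsMk _ _ (mk hJ hS (max n m) (𝟙 ((stage hJ hS (max n m)).p.obj V))),
      CategoryOfElements.homMk _ _ ((stage hJ hS (max n m)).p.map (homOfLE hVU) ≫ d ≫ f) ?_,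
      CategoryOfElements.homMk _ _ ((stage hJ hS (max n m)).p.map (homOfLE hVW) ≫ d' ≫ g) ?_, trivial⟩
    · exact (map_mk hJ hS _ _).trans (by rw [Category.id_comp, mk_le, hd])
    · exact (map_mk hJ hS _ _).trans (by rw [Category.id_comp, mk_le, hd'])
  cone_maps := by
    rintro ⟨A, a⟩ ⟨B, b⟩ ⟨g₁, h₁⟩ ⟨g₂, h₂⟩
    obtain ⟨n, U, f, rfl⟩ := mk_surj hJ hS a
    have h := ((map_mk hJ hS f g₁).symm.trans (h₁.trans h₂.symm)).trans (map_mk hJ hS f g₂)
    obtain ⟨m, V, e, he, heq⟩ := mk_eq hJ hS h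
    refine ⟨Functor.elementsMk _ _ (mk hJ hS m (𝟙 ((stage hJ hS m).p.obj V))),
      CategoryOfElements.homMk _ _ (e ≫ f) ((map_mk hJ hS _ _).trans (by rw [Category.id_comp, he])), ?_⟩
    refine Subtype.ext ?_
    change (e ≫ f) ≫ g₁ = (e ≫ f) ≫ g₂
    simpa using heq

/-- The point of the site. -/
noncomputable def point : GrothendieckTopology.Point.{u} J where
  fiber := fiber hJ hS
  initiallySmall := initiallySmall_of_essentiallySmall _
  jointly_surjective {A} R hR a := by
    obtain ⟨n, U, f, rfl⟩ := mk_surj hJ hS a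
    let t : Task (stage hJ hS n) := ⟨U, R.pullback f, J.pullback_stable f hR⟩
    let q : Idx (stage hJ hS n) := ⟨U, {t}, fun t' ht => by rw [Finset.mem_singleton.1 ht]⟩
    have hw := proj_w hJ (stage hJ hS n) q t (Finset.mem_singleton_self t)
    refine ⟨P hJ (stage hJ hS n) q, base hJ (stage hJ hS n) q ≫ f, ?_,
      mk hJ hS (n + 1) (U := q) (𝟙 _), (map_mk hJ hS _ _).trans ?_⟩
    · have hm : Sieve.arrows (R.pullback f)
          (proj hJ (stage hJ hS n) q t (Finset.mem_singleton_self t) ≫ arr hJ (stage hJ hS n) t _) :=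
        (R.pullback f).downward_closed (arr_mem hJ (stage hJ hS n) t _) _
      rw [hw] at hm
      simpa using hm
    · erw [Category.id_comp]
      rw [← mk_succ hJ hS f,
        ← mk_le hJ hS (n := n + 1) (U := idx _ U) (V := q) ⟨le_rfl, Finset.empty_subset _⟩]
      refine congrArg (fun z => mk hJ hS (n + 1) (U := q) z) ?_
      have hle : q ≤ idx (stage hJ hS n) U := ⟨le_rfl, Finset.empty_subset _⟩
      refine Eq.trans ?_ ((reassoc_of% trans_base hJ (stage hJ hS n) hle) f).symm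
      simp [q]
      all_goals rfl

theorem point_avoids : ∃ x : (fiber hJ hS).obj X, ¬ ∃ (Y : C) (g : Y ⟶ X) (_ : S g)
    (y : (fiber hJ hS).obj Y), (fiber hJ hS).map g y = x := by
  refine ⟨mk hJ hS 0 (stage hJ hS 0).f₀, ?_⟩
  rintro ⟨Y, g, hg, y, hy⟩
  obtain ⟨n, U, h, rfl⟩ := mk_surj hJ hS y
  rw [map_mk, ← (root hJ hS n).1] at hy
  obtain ⟨m, hm, e⟩ := stage_eq hJ hS hy
  obtain ⟨U', d, hd⟩ := seq_map hJ hS hm U
  rw [hd] at e
  have hroot : ((seq hJ hS).map (homOfLE hm)).app X ((stage hJ hS n).germ (stage hJ hS n).f₀) =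
      (stage hJ hS m).germ (stage hJ hS m).f₀ := by
    rw [← (root hJ hS n).2 (Nat.zero_le n), ← (root hJ hS m).2 (Nat.zero_le m),
      ← homOfLE_comp (Nat.zero_le n) hm, Functor.map_comp]
    rfl
  rw [hroot] at e
  obtain ⟨V, h₁, h₂, e'⟩ := (stage hJ hS m).mk_eq e
  refine (stage hJ hS m).good V h₂ (J.superset_covering (fun Z a _ => ?_) (J.top_mem _))
  change Sieve.arrows S (a ≫ _)
  rw [← e']
  simpa only [← Category.assoc] using S.downward_closed hg _

theorem hasEnoughPoints (hJ : Finitary J) : GrothendieckTopology.HasEnoughPoints.{u} J := by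
  let I := Σ A : C, {T : Sieve A // T ∉ J A}
  refine ⟨ObjectProperty.ofObj fun i : I => point hJ i.2.2, inferInstance,
    ObjectProperty.IsConservativeFamilyOfPoints.mk' fun A T hT => ?_⟩
  by_contra hT'
  obtain ⟨x, hx⟩ := point_avoids hJ hT'
  exact hx (hT ⟨point hJ hT', ObjectProperty.ofObj_apply (fun i : I => point hJ i.2.2) ⟨A, T, hT'⟩⟩ x)

end Groth.Deligne
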